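/-
An upper bound for the centraliser of a table permutation from an exact chain of orbits.
Main results: `card_cent_le`, `equiv_centralizer_of_bound`.
-/
import Cfsg.Agent.Lib.CosetEnum.Index

set_option autoImplicit false

namespace Cfsg.Agent.HeInvCent

open Cfsg.Agent.CosetEnum
open Cfsg.Agent.CosetEnum.Setup

variable {D : Data}

/-- `L` contains every possible image of the root under an element commuting with the letter `a`. -/
noncomputable def capOK (D : Data) (a : ℕ) (O : OrbitData) (L : List ℕ) : Bool :=
  force (D.trace [a]) fun V =>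
    bif Nat.beq (lane D.B V O.root) O.root then
      (List.range D.n).all fun i => !(Nat.beq (lane D.B O.mask i) 1 && Nat.beq (lane D.B V i) i) || L.contains i
    else (List.range D.n).all fun i => !(Nat.beq (lane D.B O.mask i) 1) || L.contains i

/-- All levels of the chain are capped. -/
noncomputable def capsOK (D : Data) (a : ℕ) : List OrbitData → List (List ℕ) → Bool
  | [], [] => true
  | O :: l, L :: Ls => capOK D a O L && capsOK D a l Ls
  | _, _ => false

theorem lane_trace (hp : D.PermFacts) {w : List ℕ} (hw : ∀ a ∈ w, a < D.k) {i : ℕ} (hi : i < 2 ^ D.lg) :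
    lane D.B (D.trace w) i = D.tw w i := by
  rw [Data.trace_eq hp w hw, lane_pack hp.hB
    (fun j hj => self_lt_two_pow_of_lt (by have := hp.hlg; omega) (Data.tw_lt hp w hw j hj)) hi]

theorem capOK_spec (hp : D.PermFacts) {a : ℕ} (ha : a < D.k) {O : OrbitData} {L : List ℕ}
    (h : capOK D a O L = true) {i : ℕ} (hi : i ∈ Data.maskSet D O) (hr : O.root < D.n)
    (hfix : D.act a O.root = O.root → D.act a i = i) : i ∈ L := by
  unfold capOK at h
  rw [force_eq] at h
  have hw : ∀ b ∈ [a], b < D.k := by simpa using ha
  have hlr : lane D.B (D.trace [a]) O.root = D.act a O.root :=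
    lane_trace hp hw (lt_of_lt_of_le hr hp.hnN)
  have hli : lane D.B (D.trace [a]) i = D.act a i := lane_trace hp hw (lt_of_lt_of_le hi.1 hp.hnN)
  cases hb : Nat.beq (lane D.B (D.trace [a]) O.root) O.root
  · rw [hb] at h
    have := List.all_eq_true.mp h i (List.mem_range.mpr hi.1)
    simpa [hi.2] using this
  · rw [hb] at h
    have := List.all_eq_true.mp h i (List.mem_range.mpr hi.1)
    have e : D.act a O.root = O.root := hlr ▸ Nat.eq_of_beq_eq_true hb
    simpa [hi.2, hli, hfix e] using this

theorem card_cent_le (hp : D.PermFacts) {a : ℕ} (ha : a < D.k) :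
    ∀ (l : List OrbitData) (Ls : List (List ℕ)) (roots : List ℕ), chainOK D l roots = true →
    (∀ b ∈ roots, b < D.n) → ∀ (P : Subgroup (Equiv.Perm (Fin D.n))),
    (∀ g : Equiv.Perm (Fin D.n), (∃ w, (∀ a ∈ w, a < D.k) ∧ g = Data.ev (perm D hp) w) →
      (∀ b ∈ roots, ∀ i : Fin D.n, (i : ℕ) = b → g i = i) → g ∈ P) →
    Nat.card P ≤ chainSize l → capsOK D a l Ls = true →
    Nat.card ↥(P ⊓ Subgroup.centralizer {perm D hp a}) ≤ (Ls.map List.length).prod
  | [], [], _, _, _, P, _, hP1, _ => by
    refine le_trans (Nat.card_le_card_of_injective (Subgroup.inclusion inf_le_left) ?_) hP1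
    exact Subgroup.inclusion_injective _
  | [], _ :: _, _, _, _, _, _, _, h => by simp [capsOK] at h
  | _ :: _, [], _, _, _, _, _, _, h => by simp [capsOK] at h
  | O :: l, L :: Ls, roots, h, hroots, P, hP, hPle, hcap => by
    simp only [capsOK, Bool.and_eq_true] at hcap
    obtain ⟨hcapO, hcapl⟩ := hcap
    change (D.reachOK O && ((O.words.all fun w => roots.all fun b => Nat.beq (lane D.B (D.trace w) b) b) &&
      chainOK D l (O.root :: roots))) = true at h
    simp only [Bool.and_eq_true, List.all_eq_true, beq_iff] at h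
    obtain ⟨hreach, hfix, hrest⟩ := h
    obtain ⟨hrootmem, hcard, hind⟩ := Data.orbit_reach hp hreach
    have hwk : ∀ w ∈ O.words, ∀ a ∈ w, a < D.k := by
      intro w hw
      obtain ⟨j, hj, rfl⟩ := List.getElem_of_mem hw
      unfold Data.reachOK at hreach
      simp only [Bool.and_eq_true, beq_iff, List.all_eq_true] at hreach
      have := hreach.2.2.2.1 (O.words[j], O.sels[j]'(by have := hreach.1; omega))
        (List.mem_of_getElem (i := j) (h := by simp; have := hreach.1; omega) (by simp))
      unfold Data.orbSelOK at this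
      simp only [Bool.and_eq_true, List.all_eq_true, Nat.blt_eq] at this
      exact this.1
    have hwP : ∀ w ∈ O.words, Data.ev (perm D hp) w ∈ P := fun w hw => hP _ ⟨w, hwk w hw, rfl⟩ fun b hb i hi => by
      have := hfix w hw b hb
      rw [lane_trace hp (hwk w hw) (lt_of_lt_of_le (hroots b hb) hp.hnN)] at this
      exact Fin.ext (by rw [ev_perm hp w (hwk w hw), hi, this])
    set r : Fin D.n := ⟨O.root, hrootmem.1⟩
    have hsub : Data.maskSet D O ⊆ (fun x : Fin D.n => (x : ℕ)) '' MulAction.orbit P r := by
      refine hind ⟨r, MulAction.mem_orbit_self r, rfl⟩ fun w hw i hi => ?_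
      rintro ⟨x, hx, rfl⟩
      refine ⟨Data.ev (perm D hp) w x, ?_, ev_perm hp w (hwk w hw) x⟩
      exact MulAction.mem_orbit_of_mem_orbit (⟨Data.ev (perm D hp) w, hwP w hw⟩ : P) hx
    let Q : Subgroup (Equiv.Perm (Fin D.n)) := P ⊓ MulAction.stabilizer (Equiv.Perm (Fin D.n)) r
    have hQP : ∀ g : Equiv.Perm (Fin D.n), (∃ w, (∀ a ∈ w, a < D.k) ∧ g = Data.ev (perm D hp) w) →
        (∀ b ∈ O.root :: roots, ∀ i : Fin D.n, (i : ℕ) = b → g i = i) → g ∈ Q :=
      fun g hg hb => ⟨hP g hg fun b hb' i hi => hb b (List.mem_cons_of_mem _ hb') i hi,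
        hb O.root List.mem_cons_self r rfl⟩
    have hroots' : ∀ b ∈ O.root :: roots, b < D.n := fun b hb => by
      rcases List.mem_cons.mp hb with rfl | hb
      exacts [hrootmem.1, hroots b hb]
    have hlow := le_card_perm hp l (O.root :: roots) hrest hroots' Q hQP
    have hQeq : Nat.card Q = Nat.card (MulAction.stabilizer P r) :=
      Nat.card_congr
        { toFun := fun q => ⟨⟨q.1, q.2.1⟩, q.2.2⟩
          invFun := fun q => ⟨q.1.1, q.1.2, q.2⟩
          left_inv := fun _ => rfl
          right_inv := fun _ => rfl }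
    have hmul : Nat.card (MulAction.orbit P r) * Nat.card Q = Nat.card P := by
      rw [hQeq, ← Nat.card_prod]
      exact Nat.card_congr (MulAction.orbitProdStabilizerEquivGroup P r)
    have himg : ((fun x : Fin D.n => (x : ℕ)) '' MulAction.orbit P r).ncard = Nat.card (MulAction.orbit P r) := by
      rw [Set.ncard_image_of_injective _ Fin.val_injective, Nat.card_coe_set_eq]
    have horb : O.size ≤ Nat.card (MulAction.orbit P r) := by
      rw [← hcard, ← himg]; exact Set.ncard_le_ncard hsub (Set.toFinite _)
    have hle : Nat.card (MulAction.orbit P r) * Nat.card Q ≤ O.size * chainSize l := hmul ▸ hPle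
    have hQpos : 0 < Nat.card Q := Nat.card_pos
    have horb' : Nat.card (MulAction.orbit P r) ≤ O.size := by
      refine Nat.le_of_mul_le_mul_right (le_trans hle (Nat.mul_le_mul_left _ hlow)) hQpos
    have hmask : Data.maskSet D O = (fun x : Fin D.n => (x : ℕ)) '' MulAction.orbit P r :=
      Set.eq_of_subset_of_ncard_le hsub (by rw [himg, hcard]; exact horb') (Set.toFinite _)
    have hQle : Nat.card Q ≤ chainSize l := by
      have hpos : 0 < O.size := by
        rw [← hcard]; exact (Set.ncard_pos (hmask ▸ Set.toFinite _)).mpr ⟨_, hrootmem⟩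
      exact Nat.le_of_mul_le_mul_left (le_trans (Nat.mul_le_mul_right _ horb) hle) hpos
    have ih := card_cent_le hp ha l Ls (O.root :: roots) hrest hroots' Q hQP hQle hcapl
    set π := perm D hp a with hπ
    let C : Subgroup (Equiv.Perm (Fin D.n)) := P ⊓ Subgroup.centralizer {π}
    show Nat.card C ≤ L.length * (Ls.map List.length).prod
    rw [← Nat.card_congr (MulAction.orbitProdStabilizerEquivGroup C r), Nat.card_prod]
    refine Nat.mul_le_mul ?_ (le_trans ?_ ih)
    · have hC : (fun x : Fin D.n => (x : ℕ)) '' MulAction.orbit C r ⊆ {i | i ∈ L} := by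
        rintro _ ⟨x, ⟨g, rfl⟩, rfl⟩
        have hgP : g.1 ∈ P := g.2.1
        refine capOK_spec hp ha hcapO ?_ hrootmem.1 fun hra => ?_
        · rw [hmask]
          exact ⟨_, ⟨⟨g.1, hgP⟩, rfl⟩, rfl⟩
        · have hcomm : π * g.1 = g.1 * π := Subgroup.mem_centralizer_iff.mp g.2.2 π rfl
          have e := DFunLike.congr_fun hcomm r
          rw [Equiv.Perm.mul_apply, Equiv.Perm.mul_apply] at e
          have hr : π r = r := Fin.ext (by rw [hπ, perm_apply hp ha]; exact hra)
          rw [hr] at e
          have := congrArg Fin.val e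
          rw [hπ, perm_apply hp ha] at this
          exact this
      rw [Nat.card_coe_set_eq, ← Set.ncard_image_of_injective _ Fin.val_injective]
      refine le_trans (Set.ncard_le_ncard hC L.finite_toSet) ?_
      have : {i | i ∈ L} = (↑L.toFinset : Set ℕ) := by ext; simp
      rw [this, Set.ncard_coe_finset]
      exact L.toFinset_card_le
    · refine Nat.card_le_card_of_injective (fun g => ⟨g.1.1, ⟨g.1.2.1, g.2⟩, g.1.2.2⟩) fun g g' h => ?_
      exact Subtype.ext (Subtype.ext (congrArg Subtype.val h :))

/-- If a group acts faithfully by the same permutations as part of a centraliser and is at least as big as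
the centraliser, then it is isomorphic to it. -/
theorem equiv_centralizer_of_bound {Q G M : Type*} [Group Q] [Group G] [Group M] [Finite G] (h : Q →* M)
    (hh : Function.Injective h) (ι : G →* M) (hι : Function.Injective ι) (z : G) (s : Set Q)
    (hs : Subgroup.closure s = ⊤) (hgen : ∀ q ∈ s, ∃ g : G, ι g = h q ∧ z * g = g * z)
    (hcard : Nat.card (Subgroup.centralizer {z}) ≤ Nat.card Q) :
    Nonempty (Subgroup.centralizer ({z} : Set G) ≃* Q) := by
  let K : Subgroup M := (Subgroup.centralizer {z}).map ι
  have hK : ∀ q, h q ∈ K := by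
    intro q
    have : Subgroup.closure s ≤ K.comap h := (Subgroup.closure_le _).mpr fun q hq => by
      obtain ⟨g, hg, hc⟩ := hgen q hq
      refine ⟨g, Subgroup.mem_centralizer_iff.mpr ?_, hg⟩
      rintro _ rfl
      exact hc
    exact this (hs ▸ Subgroup.mem_top q)
  let e : Subgroup.centralizer {z} ≃* K := (Subgroup.centralizer {z}).equivMapOfInjective ι hι
  let f : Q →* Subgroup.centralizer {z} := e.symm.toMonoidHom.comp (h.codRestrict K hK)
  have hf : Function.Injective f := fun a b hab =>
    hh (congrArg Subtype.val (e.symm.injective hab) :)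
  haveI : Finite Q := Finite.of_injective f hf
  have hb : Function.Bijective f :=
    (Nat.bijective_iff_injective_and_card _).mpr ⟨hf, le_antisymm (Nat.card_le_card_of_injective f hf) hcard⟩
  exact ⟨(MulEquiv.ofBijective f hb).symm⟩

end Cfsg.Agent.HeInvCent
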