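/-
Generated certificates for the centraliser of an involution of the Held group (ImgSL).
-/
import Cfsg.Agent.Lib.HeInvCent.PresTable

set_option autoImplicit false
set_option maxRecDepth 100000
set_option Elab.async false

namespace Cfsg.Agent.HeInvCent

open Cfsg.Agent.CosetEnum

noncomputable def slImg_net0 : List (ℕ × ℕ) := [
 (16, spread 8 5 0xff0),
 (8, spread 8 5 0xf000f0),
 (4, spread 8 5 0xc03030c),
 (1, spread 8 5 0x50505050)]

noncomputable def slImg_net1 : List (ℕ × ℕ) := [
 (16, spread 8 5 0xff00),
 (8, spread 8 5 0xc3003c),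
 (4, spread 8 5 0x3030c0c),
 (1, spread 8 5 0x41411414)]

noncomputable def slImg_net2 : List (ℕ × ℕ) := [
 (16, spread 8 5 0xf0f0),
 (8, spread 8 5 0xf00f0),
 (4, spread 8 5 0xf0f0000),
 (1, spread 8 5 0x55550000)]

noncomputable def slImg_net3 : List (ℕ × ℕ) := [
 (8, spread 8 5 0xf000f0),
 (4, spread 8 5 0xf0f0000),
 (1, spread 8 5 0x55550000),
 (16, spread 8 5 0xf0f0)]

/-- The permutations of the two generators and their inverses. -/
noncomputable def slImg : Data where
  B := 8
  lg := 5
  n := 32
  k := 4
  inv := [1, 0, 3, 2]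
  nets := [slImg_net0, slImg_net1, slImg_net2, slImg_net3]
  ranks := []
  sels := []
  depth := 0
  loops := []

noncomputable def slImg_base0_sel0 : ℕ :=
 spread 8 5 0x40804400

noncomputable def slImg_base0_sel1 : ℕ :=
 spread 8 5 0x888

noncomputable def slImg_base0_sel2 : ℕ :=
 spread 8 5 0x84480000

noncomputable def slImg_base0_sel3 : ℕ :=
 spread 8 5 0x8048040

noncomputable def slImg_base0_depth : ℕ :=
 0x203000002030000020200000402000003010000030300000104000004000000

noncomputable def slImg_base0_mask : ℕ :=
 spread 8 5 0xcccccccc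

noncomputable def slImg_base0 : OrbitData where
  words := [[0], [1], [2], [3]]
  sels := [slImg_base0_sel0, slImg_base0_sel1, slImg_base0_sel2, slImg_base0_sel3]
  depth := slImg_base0_depth
  mask := slImg_base0_mask
  root := 2
  size := 16

noncomputable def slImg_base1_sel0 : ℕ :=
 spread 8 5 0x11330020

noncomputable def slImg_base1_sel1 : ℕ :=
 spread 8 5 0x22003300

noncomputable def slImg_base1_depth : ℕ :=
 0x20100000605000004050000020300000304000005060000040000000000

noncomputable def slImg_base1_mask : ℕ :=
 spread 8 5 0x33333330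

noncomputable def slImg_base1 : OrbitData where
  words := [[2], [0, 2, 0, 3, 0]]
  sels := [slImg_base1_sel0, slImg_base1_sel1]
  depth := slImg_base1_depth
  mask := slImg_base1_mask
  root := 4
  size := 14

noncomputable def slImg_base2_sel0 : ℕ :=
 spread 8 5 0x22320200

noncomputable def slImg_base2_sel1 : ℕ :=
 spread 8 5 0x11000000

noncomputable def slImg_base2_sel2 : ℕ :=
 spread 8 5 0x13000

noncomputable def slImg_base2_depth : ℕ :=
 0x30200000201000001030000020200000301000002000000000000000000

noncomputable def slImg_base2_mask : ℕ :=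
 spread 8 5 0x33333300

noncomputable def slImg_base2 : OrbitData where
  words := [[0, 2, 0, 3, 0], [0, 0, 3, 0, 3, 1, 2], [1, 1, 3, 0, 3, 0, 3]]
  sels := [slImg_base2_sel0, slImg_base2_sel1, slImg_base2_sel2]
  depth := slImg_base2_depth
  mask := slImg_base2_mask
  root := 8
  size := 12

noncomputable def slImg_base3_sel0 : ℕ :=
 spread 8 5 0x10000000

noncomputable def slImg_base3_sel1 : ℕ :=
 spread 8 5 0x1100000

noncomputable def slImg_base3_sel2 : ℕ :=
 spread 8 5 0x22220000

noncomputable def slImg_base3_depth : ℕ :=
 0x20100000302000002010000010000000000000000000000000000000000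

noncomputable def slImg_base3_mask : ℕ :=
 spread 8 5 0x33330000

noncomputable def slImg_base3 : OrbitData where
  words := [[1, 3, 0, 0, 3, 0, 3, 1, 3, 0], [1, 3, 0, 2, 1, 1, 2, 0, 2, 1], [2, 0, 3, 0, 0, 2, 0, 3, 0, 0]]
  sels := [slImg_base3_sel0, slImg_base3_sel1, slImg_base3_sel2]
  depth := slImg_base3_depth
  mask := slImg_base3_mask
  root := 16
  size := 8

/-- A chain of orbits. -/
noncomputable def slImgChain : List OrbitData := [slImg_base0, slImg_base1, slImg_base2, slImg_base3]

theorem slImgChain_check : (slImg.permOK && (qSetup.lettersOK slImg && (qSetup.relsOK slImg &&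
    (Setup.chainOK slImg slImgChain [] && Nat.beq (Setup.chainSize slImgChain) 21504)))) = true := by decide +kernel

end Cfsg.Agent.HeInvCent
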