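/-
The presented group of order 21504 and its two faithful representations.
Main results: `qCard`, `heImg_inj`, `slImg_inj`.
-/
import Cfsg.Agent.Lib.HeInvCent.ImgHe
import Cfsg.Agent.Lib.HeInvCent.ImgSL

set_option autoImplicit false

namespace Cfsg.Agent.HeInvCent

open Cfsg.Agent.CosetEnum

theorem qSetup_gens : ∀ x, x ∈ qSetup.gens := by intro x; cases x <;> simp [qSetup]

theorem qx_card : Nat.card (qSetup.closureOf [qx]) ≤ 7 ∧ Nat.card (qSetup.closureOf [qx]) ≠ 0 := by
  have hmem : qx ^ 7 ∈ qSetup.rels := Or.inr (by decide +kernel)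
  have h7 : (PresentedGroup.mk qSetup.rels qx) ^ 7 = 1 := by
    rw [← map_pow]; exact PresentedGroup.one_of_mem hmem
  have e : qSetup.closureOf [qx] = Subgroup.zpowers (PresentedGroup.mk qSetup.rels qx) := by
    rw [Subgroup.zpowers_eq_closure, Setup.closureOf]
    congr 1
    simp
  rw [e, Nat.card_zpowers]
  have hfin : IsOfFinOrder (PresentedGroup.mk qSetup.rels qx) := isOfFinOrder_iff_pow_eq_one.mpr ⟨7, by norm_num, h7⟩
  exact ⟨orderOf_le_of_pow_eq_one (by norm_num) h7, hfin.orderOf_pos.ne'⟩

theorem qCard_le : Nat.card qSetup.G ≤ 21504 ∧ Nat.card qSetup.G ≠ 0 := by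
  have hl : qSetup.lettersOK qLetters = true := by decide +kernel
  have h0 := Setup.seed_fixes (hs := [qx]) (emb := [0, 1, 2, 3]) qSetup_gens hl qSeed0_check (by decide +kernel)
  have h := Setup.card_step qSetup_gens hl qTable qTable_check [0, 1, 2, 3] (by decide +kernel) [qx]
    [qSeed0.tgt] [] (by decide +kernel) (by decide +kernel) (by simp)
    (fun w hw => by rw [List.mem_singleton.mp hw]; exact h0) qx_card
  exact Setup.bound_univ qSetup_gens hl h (by decide +kernel)

theorem heImg_facts : heImg.PermFacts ∧ qSetup.lettersOK heImg = true ∧ qSetup.relsOK heImg = true := by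
  have h := heImgChain_check
  simp only [Bool.and_eq_true] at h
  exact ⟨Data.permFacts h.1, h.2.1, h.2.2.1⟩

theorem slImg_facts : slImg.PermFacts ∧ qSetup.lettersOK slImg = true ∧ qSetup.relsOK slImg = true := by
  have h := slImgChain_check
  simp only [Bool.and_eq_true] at h
  exact ⟨Data.permFacts h.1, h.2.1, h.2.2.1⟩

/-- The representation on the 2058 points. -/
noncomputable def heRep : qSetup.G →* Equiv.Perm (Fin heImg.n) :=
  Setup.hom qSetup_gens heImg_facts.2.1 heImg_facts.1 heImg_facts.2.2

/-- The representation on the 32 points. -/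
noncomputable def slRep : qSetup.G →* Equiv.Perm (Fin slImg.n) :=
  Setup.hom qSetup_gens slImg_facts.2.1 slImg_facts.1 slImg_facts.2.2

theorem qCard : Nat.card qSetup.G = 21504 ∧ Function.Injective heRep := by
  have h := heImgChain_check
  simp only [Bool.and_eq_true] at h
  exact Setup.card_eq_of_bounds qSetup_gens heImg_facts.2.1 heImg_facts.1 heImg_facts.2.2 heImgChain
    h.2.2.2.1 qCard_le (Nat.eq_of_beq_eq_true h.2.2.2.2)

theorem slRep_inj : Function.Injective slRep := by
  have h := slImgChain_check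
  simp only [Bool.and_eq_true] at h
  exact (Setup.card_eq_of_bounds qSetup_gens slImg_facts.2.1 slImg_facts.1 slImg_facts.2.2 slImgChain
    h.2.2.2.1 qCard_le (Nat.eq_of_beq_eq_true h.2.2.2.2)).2

theorem qGenerate : Subgroup.closure (qSetup.el '' {0, 2}) = ⊤ := by
  rw [eq_top_iff, ← PresentedGroup.closure_range_of qSetup.rels, Subgroup.closure_le]
  rintro _ ⟨x, rfl⟩
  cases x
  · exact Subgroup.subset_closure ⟨0, Or.inl rfl, rfl⟩
  · exact Subgroup.subset_closure ⟨2, Or.inr rfl, rfl⟩

end Cfsg.Agent.HeInvCent
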