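/-
The centraliser of a transvection in `SL(5, 2)`: order bound and action on vectors.
Main results: `card_centralizer_le`, `slAct_injective`.
-/
import Mathlib

set_option autoImplicit false

namespace Cfsg.Agent.HeInvCent

open Matrix

/-- The permutation of the 32 vectors, numbered by their binary digits. -/
def code (v : Fin 5 → ZMod 2) : Fin 32 :=
  ⟨(v 0).val + 2 * (v 1).val + 4 * (v 2).val + 8 * (v 3).val + 16 * (v 4).val, by
    have := (v 0).val_lt; have := (v 1).val_lt; have := (v 2).val_lt
    have := (v 3).val_lt; have := (v 4).val_lt; omega⟩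

/-- The vector with a given number. -/
def decode (i : Fin 32) : Fin 5 → ZMod 2 := fun j => ((i.val / 2 ^ j.val % 2 : ℕ) : ZMod 2)

theorem code_decode : ∀ i, code (decode i) = i := by decide +kernel

theorem decode_code : ∀ v, decode (code v) = v := by decide +kernel

/-- The image of a vector number under a matrix. -/
def slFun (M : SpecialLinearGroup (Fin 5) (ZMod 2)) (i : Fin 32) : Fin 32 :=
  code ((M : Matrix (Fin 5) (Fin 5) (ZMod 2)) *ᵥ decode i)

theorem slFun_mul (M N : SpecialLinearGroup (Fin 5) (ZMod 2)) (i : Fin 32) :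
    slFun (M * N) i = slFun M (slFun N i) := by
  simp [slFun, decode_code, mulVec_mulVec]

theorem slFun_one (i : Fin 32) : slFun 1 i = i := by
  simp [slFun, code_decode]

/-- The action of `SL(5, 2)` on the 32 vectors. -/
def slAct : SpecialLinearGroup (Fin 5) (ZMod 2) →* Equiv.Perm (Fin 32) where
  toFun M :=
    { toFun := slFun M
      invFun := slFun M⁻¹
      left_inv := fun i => by rw [← slFun_mul, inv_mul_cancel, slFun_one]
      right_inv := fun i => by rw [← slFun_mul, mul_inv_cancel, slFun_one] }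
  map_one' := Equiv.ext slFun_one
  map_mul' M N := Equiv.ext (slFun_mul M N)

theorem slAct_apply (M : SpecialLinearGroup (Fin 5) (ZMod 2)) (i : Fin 32) : slAct M i = slFun M i := rfl

theorem slAct_injective : Function.Injective slAct := by
  intro M N h
  apply Subtype.ext
  refine Matrix.ext_iff_mulVec.mpr fun v => ?_
  have h2 := congrArg decode (DFunLike.congr_fun h (code v))
  simpa [slAct_apply, slFun, decode_code] using h2

/-- The block of the last three coordinates. -/
def block (M : Matrix (Fin 5) (Fin 5) (ZMod 2)) : Matrix (Fin 3) (Fin 3) (ZMod 2) :=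
  M.submatrix (Fin.natAdd 2) (Fin.natAdd 2)

/-- Invertible `3 × 3` matrices. -/
abbrev Block : Type := {A : Matrix (Fin 3) (Fin 3) (ZMod 2) // A.det = 1}

theorem card_block : Fintype.card Block = 168 := by decide +kernel

/-- The shape of a matrix commuting with the transvection. -/
theorem shape {M : Matrix (Fin 5) (Fin 5) (ZMod 2)}
    (h : transvection (0 : Fin 5) 1 (1 : ZMod 2) * M = M * transvection (0 : Fin 5) 1 (1 : ZMod 2)) :
    M 1 1 = M 0 0 ∧ (∀ i, i ≠ 0 → M i 0 = 0) ∧ ∀ j, j ≠ 1 → M 1 j = 0 := by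
  have e : ∀ i j : Fin 5, (transvection (0 : Fin 5) 1 (1 : ZMod 2) * M) i j =
      (M * transvection (0 : Fin 5) 1 (1 : ZMod 2)) i j := fun i j => by rw [h]
  refine ⟨?_, fun i hi => ?_, fun j hj => ?_⟩
  · have := e 0 1
    rw [transvection_mul_apply_same, mul_transvection_apply_same] at this
    simp only [one_mul] at this
    exact add_left_cancel this
  · have := e i 1
    rw [transvection_mul_apply_of_ne 0 1 i 1 hi, mul_transvection_apply_same] at this
    simp only [one_mul] at this
    exact add_left_cancel (this.symm.trans (add_zero _).symm)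
  · have := e 0 j
    rw [transvection_mul_apply_same, mul_transvection_apply_of_ne 0 1 0 j hj] at this
    simp only [one_mul] at this
    exact add_eq_left.mp this

theorem inverse_shape {A B : Matrix (Fin 5) (Fin 5) (ZMod 2)} (hA0 : ∀ i, i ≠ 0 → A i 0 = 0)
    (hB0 : ∀ i, i ≠ 0 → B i 0 = 0) (hB1 : ∀ j, j ≠ 1 → B 1 j = 0) (h : A * B = 1) :
    A 0 0 = 1 ∧ (block A).det = 1 := by
  have hdec : ∀ a b : ZMod 2, a * b = 1 → a = 1 := by decide
  constructor
  · refine hdec _ (B 0 0) ?_
    have := congrFun (congrFun h 0) 0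
    simp only [mul_apply, Fin.sum_univ_five, one_apply_eq, hB0 1 (by decide), hB0 2 (by decide),
      hB0 3 (by decide), hB0 4 (by decide), mul_zero, add_zero] at this
    exact this
  · refine hdec _ (block B).det ?_
    rw [← det_mul]
    refine (congrArg det ?_).trans det_one
    ext i j
    have := congrFun (congrFun h (Fin.natAdd 2 i)) (Fin.natAdd 2 j)
    have hi0 : Fin.natAdd 2 i ≠ (0 : Fin 5) := (by decide : ∀ i : Fin 3, Fin.natAdd 2 i ≠ (0 : Fin 5)) i
    have hj1 : Fin.natAdd 2 j ≠ (1 : Fin 5) := (by decide : ∀ j : Fin 3, Fin.natAdd 2 j ≠ (1 : Fin 5)) j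
    simp only [mul_apply, Fin.sum_univ_five, one_apply, hA0 _ hi0, hB1 _ hj1, mul_zero, zero_mul, zero_add,
      Fin.natAdd_inj] at this
    simp only [mul_apply, Fin.sum_univ_three, block, submatrix_apply, one_apply]
    exact this

theorem card_centralizer_le (s : SpecialLinearGroup (Fin 5) (ZMod 2))
    (hs : (s : Matrix (Fin 5) (Fin 5) (ZMod 2)) = transvection 0 1 1) :
    Nat.card (Subgroup.centralizer {s}) ≤ 21504 := by
  have hsh : ∀ M : Subgroup.centralizer {s}, _ ∧ _ := fun M =>
    shape (M := (M.1 : Matrix (Fin 5) (Fin 5) (ZMod 2))) (by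
      rw [← hs]
      exact congrArg Subtype.val (Subgroup.mem_centralizer_iff.mp M.2 s rfl))
  have hinv : ∀ M : Subgroup.centralizer {s}, (M.1.1 : Matrix (Fin 5) (Fin 5) (ZMod 2)) 0 0 = 1 ∧
      (block M.1.1).det = 1 := fun M =>
    inverse_shape (hsh M).2.1 (hsh M⁻¹).2.1 (hsh M⁻¹).2.2
      (congrArg Subtype.val (congrArg Subtype.val (mul_inv_cancel M) :) :)
  let f : Subgroup.centralizer {s} → ZMod 2 × (Fin 3 → ZMod 2) × (Fin 3 → ZMod 2) × Block := fun M =>
    (M.1.1 0 1, fun j => M.1.1 0 (Fin.natAdd 2 j), fun i => M.1.1 (Fin.natAdd 2 i) 1,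
      ⟨block M.1.1, (hinv M).2⟩)
  have hf : Function.Injective f := by
    intro M N h
    simp only [f, Prod.mk.injEq, Subtype.mk.injEq] at h
    obtain ⟨h01, hrow, hcol, hblk⟩ := h
    obtain ⟨e11, e0, e1⟩ := hsh M
    obtain ⟨e11', e0', e1'⟩ := hsh N
    have hcase : ∀ i : Fin 5, i = 0 ∨ i = 1 ∨ ∃ k : Fin 3, i = Fin.natAdd 2 k := by decide
    refine Subtype.ext (Subtype.ext (Matrix.ext fun i j => ?_))
    rcases hcase i with rfl | rfl | ⟨k, rfl⟩ <;> rcases hcase j with rfl | rfl | ⟨l, rfl⟩
    · rw [(hinv M).1, (hinv N).1]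
    · exact h01
    · exact congrFun hrow l
    · rw [e0 1 (by decide), e0' 1 (by decide)]
    · rw [e11, e11', (hinv M).1, (hinv N).1]
    · have hne : Fin.natAdd 2 l ≠ (1 : Fin 5) := by revert l; decide
      rw [e1 _ hne, e1' _ hne]
    · have hne : Fin.natAdd 2 k ≠ (0 : Fin 5) := by revert k; decide
      rw [e0 _ hne, e0' _ hne]
    · exact congrFun hcol k
    · exact congrFun (congrFun hblk k) l
  refine le_trans (Nat.card_le_card_of_injective f hf) ?_
  simp [Nat.card_eq_fintype_card, Fintype.card_prod, card_block]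

end Cfsg.Agent.HeInvCent
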