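/-
The two centralisers are both isomorphic to the presented group of order 21504.
Main results: `he_centralizer`, `sl_centralizer`, `he_z_order`.
-/
import Cfsg.Agent.S1683
import Cfsg.Agent.Lib.CosetEnum.BaseHe
import Cfsg.Agent.Lib.CosetEnum.BoundHe
import Cfsg.Agent.Lib.HeInvCent.Cap
import Cfsg.Agent.Lib.HeInvCent.HeChain
import Cfsg.Agent.Lib.HeInvCent.Q
import Cfsg.Agent.Lib.HeInvCent.SLBound

set_option autoImplicit false

namespace Cfsg.Agent.HeInvCent

open Cfsg.Agent.CosetEnum

/-- The involution. -/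
def heZ : heSetup.G := heSetup.el 3

theorem map_ev {M N : Type*} [Group M] [Group N] (f : M →* N) (el : ℕ → M) :
    ∀ w : List ℕ, f (Data.ev el w) = Data.ev (fun a => f (el a)) w
  | [] => map_one f
  | a :: v => by
    show f (Data.ev el v * el a) = Data.ev (fun a => f (el a)) v * f (el a)
    rw [map_mul, map_ev f el v]

theorem he_facts : he2058.PermFacts ∧ heSetup.lettersOK he2058 = true ∧ heSetup.relsOK he2058 = true :=
  ⟨Cfsg.Agent.S1683.table.perm, Cfsg.Agent.S1683.table.letters, Cfsg.Agent.S1683.table.rels⟩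

/-- The faithful representation of the Held group. -/
noncomputable def heHom : heSetup.G →* Equiv.Perm (Fin he2058.n) :=
  Setup.hom heSetup_gens he_facts.2.1 he_facts.1 he_facts.2.2

theorem heHom_card : Nat.card heSetup.G = 4030387200 ∧ Function.Injective heHom := by
  have hch := he2058_chain_check
  simp only [Bool.and_eq_true] at hch
  exact Setup.card_eq_of_bounds heSetup_gens he_facts.2.1 he_facts.1 he_facts.2.2 he2058_chain hch.1 he_card_le
    (Nat.eq_of_beq_eq_true hch.2)

theorem heHom_ev {w : List ℕ} (hw : ∀ a ∈ w, a < he2058.k) :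
    heHom (Data.ev heSetup.el w) = Data.ev (Setup.perm he2058 he_facts.1) w := by
  rw [map_ev]
  exact Setup.ev_congr w fun a ha => Setup.hom_el heSetup_gens he_facts.2.1 he_facts.1 he_facts.2.2 (hw a ha)

theorem ev_perm_lane {D : Data} (hp : D.PermFacts) {w : List ℕ} (hw : ∀ a ∈ w, a < D.k) (i : Fin D.n) :
    (Data.ev (Setup.perm D hp) w i : ℕ) = lane D.B (D.trace w) i := by
  rw [Setup.ev_perm hp w hw, lane_trace hp hw (lt_of_lt_of_le i.2 hp.hnN)]

/-- The words of the two generators. -/
def heWord : ℕ → List ℕ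
  | 0 => [1, 5, 3, 2, 4, 3, 5, 6, 3, 2, 3, 6]
  | _ => [0, 1, 6, 5, 3, 6, 5, 3, 2, 1, 3, 6, 4, 3, 5, 4, 2, 3, 6]

/-- The word gives the permutation of the generator and commutes with the involution. -/
noncomputable def genOK (a : ℕ) : Bool :=
  (heWord a).all (fun b => Nat.blt b 7) && (Nat.beq (he2058.trace (heWord a)) (heImg.trace [a]) &&
    Nat.beq (he2058.trace (heWord a ++ [3])) (he2058.trace (3 :: heWord a)))

theorem he_gen {a : ℕ} (ha : a < 4) (h : genOK a = true) :
    ∃ g : heSetup.G, heHom g = (heRep (qSetup.el a) : Equiv.Perm (Fin he2058.n)) ∧ heZ * g = g * heZ := by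
  unfold genOK at h
  simp only [Bool.and_eq_true, List.all_eq_true, Nat.blt_eq] at h
  obtain ⟨hw, h1, h2⟩ := h
  have h3 : (3 : ℕ) < he2058.k := (by decide : 3 < 7)
  have hA : ∀ b ∈ heWord a ++ [3], b < he2058.k := by
    intro b hb
    rcases List.mem_append.mp hb with hb | hb
    · exact hw b hb
    · rw [List.mem_singleton.mp hb]; exact h3
  have hB : ∀ b ∈ 3 :: heWord a, b < he2058.k := by
    intro b hb
    rcases List.mem_cons.mp hb with rfl | hb
    · exact h3
    · exact hw b hb
  refine ⟨Data.ev heSetup.el (heWord a), ?_, heHom_card.2 ?_⟩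
  · rw [heHom_ev hw]
    refine Eq.trans ?_ (Setup.hom_el qSetup_gens heImg_facts.2.1 heImg_facts.1 heImg_facts.2.2 (a := a) ha).symm
    refine Equiv.ext fun i => Fin.ext ?_
    rw [ev_perm_lane he_facts.1 hw, Nat.eq_of_beq_eq_true h1]
    have e := ev_perm_lane heImg_facts.1 (w := [a]) (by intro b hb; rw [List.mem_singleton.mp hb]; exact ha) i
    refine Eq.trans e.symm ?_
    simp only [Data.ev, one_mul]
    rfl
  · have e1 : heZ * Data.ev heSetup.el (heWord a) = Data.ev heSetup.el (heWord a ++ [3]) := by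
      rw [Data.ev_append]; simp [Data.ev, heZ]
    have e2 : Data.ev heSetup.el (heWord a) * heZ = Data.ev heSetup.el (3 :: heWord a) := rfl
    rw [e1, e2, heHom_ev hA, heHom_ev hB]
    refine Equiv.ext fun i => Fin.ext ?_
    rw [ev_perm_lane he_facts.1 hA, ev_perm_lane he_facts.1 hB, Nat.eq_of_beq_eq_true h2]

theorem card_centralizer_heZ : Nat.card (Subgroup.centralizer {heZ}) ≤ 21504 := by
  have hch := heChain_check
  simp only [Bool.and_eq_true] at hch
  haveI : Finite heSetup.G := Nat.finite_of_card_ne_zero (by rw [heHom_card.1]; norm_num)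
  have hcap : capsOK he2058 3 heChain heCaps = true := by decide +kernel
  have hprod : (heCaps.map List.length).prod = 21504 := by decide +kernel
  have h3 : (3 : ℕ) < he2058.k := (by decide : 3 < 7)
  have hle : Nat.card heHom.range ≤ Setup.chainSize heChain := by
    rw [Nat.eq_of_beq_eq_true hch.2, ← heHom_card.1]
    exact Nat.card_le_card_of_surjective _ heHom.rangeRestrict_surjective
  have hb := card_cent_le he_facts.1 h3 heChain heCaps [] hch.1 (fun _ h => by simp at h) heHom.range
    (fun g ⟨w, hw, e⟩ _ => e ▸ ⟨_, heHom_ev hw⟩) hle hcap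
  refine le_trans (Nat.card_le_card_of_injective
    (β := ↥(heHom.range ⊓ Subgroup.centralizer {Setup.perm he2058 he_facts.1 3}))
    (fun g : Subgroup.centralizer {heZ} => ⟨heHom g.1, ⟨g.1, rfl⟩, ?_⟩) ?_) (hprod ▸ hb)
  · refine Subgroup.mem_centralizer_iff.mpr fun p hp => ?_
    rw [Set.mem_singleton_iff.mp hp]
    have e : heHom heZ = Setup.perm he2058 he_facts.1 3 :=
      Setup.hom_el heSetup_gens he_facts.2.1 he_facts.1 he_facts.2.2 h3
    rw [← e, ← map_mul, ← map_mul, Subgroup.mem_centralizer_iff.mp g.2 heZ rfl]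
  · intro g g' h
    exact Subtype.ext (heHom_card.2 (congrArg Subtype.val h))

theorem he_centralizer : Nonempty (Subgroup.centralizer ({heZ} : Set heSetup.G) ≃* qSetup.G) := by
  haveI : Finite heSetup.G := Nat.finite_of_card_ne_zero (by rw [heHom_card.1]; norm_num)
  refine equiv_centralizer_of_bound (M := Equiv.Perm (Fin he2058.n)) heRep qCard.2 heHom heHom_card.2 heZ
    (qSetup.el '' {0, 2}) qGenerate ?_ (by rw [qCard.1]; exact card_centralizer_heZ)
  rintro _ ⟨a, rfl | rfl, rfl⟩
  · exact he_gen (by norm_num) (by decide +kernel)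
  · exact he_gen (by norm_num) (by decide +kernel)

theorem he_z_order : orderOf heZ = 2 := by
  refine orderOf_eq_prime ?_ ?_
  · rw [pow_two]; exact Setup.of_sq heSetup (by decide +kernel)
  · intro h
    have h3 : (3 : ℕ) < he2058.k := (by decide : 3 < 7)
    have e : heHom heZ = Setup.perm he2058 he_facts.1 3 :=
      Setup.hom_el heSetup_gens he_facts.2.1 he_facts.1 he_facts.2.2 h3
    rw [h, map_one] at e
    have hmove : (Nat.beq (lane he2058.B (he2058.trace [3]) 2) 2) = false := by decide +kernel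
    let i : Fin he2058.n := ⟨2, (by decide : 2 < 2058)⟩
    have h2 := ev_perm_lane he_facts.1 (w := [3]) (by intro b hb; rw [List.mem_singleton.mp hb]; exact h3) i
    simp only [Data.ev, one_mul, ← e, Equiv.Perm.one_apply] at h2
    rw [← show (2 : ℕ) = lane he2058.B (he2058.trace [3]) 2 from h2, Nat.beq_refl] at hmove
    exact Bool.noConfusion hmove

open Matrix in
/-- The matrices of the two generators. -/
def slMat : ℕ → Matrix (Fin 5) (Fin 5) (ZMod 2)
  | 0 => !![1, 0, 1, 0, 0; 0, 1, 0, 0, 0; 0, 1, 1, 1, 1; 0, 1, 1, 0, 1; 0, 0, 0, 1, 1]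
  | _ => !![1, 0, 0, 0, 1; 0, 1, 0, 0, 0; 0, 0, 1, 0, 1; 0, 0, 1, 1, 0; 0, 0, 1, 0, 0]

/-- The generators as elements of `SL(5, 2)`. -/
def slGen (a : ℕ) (h : (slMat a).det = 1) : Matrix.SpecialLinearGroup (Fin 5) (ZMod 2) := ⟨slMat a, h⟩

theorem sl_centralizer (s : Matrix.SpecialLinearGroup (Fin 5) (ZMod 2))
    (hs : (s : Matrix (Fin 5) (Fin 5) (ZMod 2)) = Matrix.transvection 0 1 1) :
    Nonempty (Subgroup.centralizer {s} ≃* qSetup.G) := by
  refine equiv_centralizer_of_bound (M := Equiv.Perm (Fin 32)) slRep slRep_inj slAct slAct_injective s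
    (qSetup.el '' {0, 2}) qGenerate ?_ (by rw [qCard.1]; exact card_centralizer_le s hs)
  have key : ∀ a, a < 4 → ∀ h : (slMat a).det = 1,
      (∀ i : Fin 32, (slFun (slGen a h) i : ℕ) = lane slImg.B (slImg.trace [a]) i) →
      Matrix.transvection (0 : Fin 5) 1 (1 : ZMod 2) * slMat a = slMat a * Matrix.transvection (0 : Fin 5) 1 (1 : ZMod 2) →
      ∃ g, slAct g = (slRep (qSetup.el a) : Equiv.Perm (Fin 32)) ∧ s * g = g * s := by
    intro a ha h hact hc
    refine ⟨slGen a h, ?_, Subtype.ext ?_⟩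
    · refine Eq.trans ?_ (Setup.hom_el qSetup_gens slImg_facts.2.1 slImg_facts.1 slImg_facts.2.2 (a := a) ha).symm
      refine Equiv.ext fun i => Fin.ext ?_
      have e := ev_perm_lane slImg_facts.1 (w := [a]) (by intro b hb; rw [List.mem_singleton.mp hb]; exact ha) i
      refine (hact i).trans (Eq.trans e.symm ?_)
      simp only [Data.ev, one_mul]
      rfl
    · show (s : Matrix (Fin 5) (Fin 5) (ZMod 2)) * slMat a = slMat a * (s : Matrix (Fin 5) (Fin 5) (ZMod 2))
      rw [hs]; exact hc
  rintro _ ⟨a, rfl | rfl, rfl⟩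
  · exact key 0 (by norm_num) (by decide +kernel) (by decide +kernel) (by decide +kernel)
  · exact key 2 (by norm_num) (by decide +kernel) (by decide +kernel) (by decide +kernel)

end Cfsg.Agent.HeInvCent
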